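import Mathlib

/-!
# An abstract form of Hopf's lemma on bilinear maps without zero divisors.
-/

set_option autoImplicit false

namespace Groth.Agent.H5.Hopf

open Module

variable {k V W U : Type*} [Field k] [AddCommGroup V] [Module k V] [AddCommGroup W] [Module k W]
  [AddCommGroup U] [Module k U]

/-- the span of the products `μ s t`, `t ∈ W'`. -/
def prodSpan (μ : V → W → U) (W' : Submodule k W) : Submodule k U :=
  Submodule.span k {u | ∃ (s : V) (t : W), t ∈ W' ∧ μ s t = u}

lemma mem_prodSpan (μ : V → W → U) (W' : Submodule k W) (s : V) {t : W} (ht : t ∈ W') :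
    μ s t ∈ prodSpan μ W' :=
  Submodule.subset_span ⟨s, t, ht, rfl⟩

/-- **abstract Hopf lemma**: if a pairing `μ`, linear in the first variable, admits for every
pair of nonzero vectors "evaluation" functionals `α, β, Θ` with `Θ (μ s' t') = α s' * β t'`
not vanishing at the pair, then `dim V + dim W ≤ dim U + 1`. -/
theorem finrank_add_le [FiniteDimensional k V] [FiniteDimensional k W] [FiniteDimensional k U]
    [Nontrivial V] [Nontrivial W]
    (μ : V → W → U) (hμ : ∀ t : W, ∃ L : V →ₗ[k] U, ∀ s, L s = μ s t)
    (h : ∀ s : V, s ≠ 0 → ∀ t : W, t ≠ 0 → ∃ (α : V →ₗ[k] k) (β : W →ₗ[k] k) (Θ : U →ₗ[k] k),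
      α s ≠ 0 ∧ β t ≠ 0 ∧ ∀ s' t', Θ (μ s' t') = α s' * β t') :
    finrank k V + finrank k W ≤ finrank k U + 1 := by
  have key : ∀ (n : ℕ) (W' : Submodule k W), finrank k W' = n + 1 →
      finrank k V + n ≤ finrank k (prodSpan μ W') := by
    intro n
    induction n with
    | zero =>
      intro W' hW'
      haveI : Nontrivial W' := Module.nontrivial_of_finrank_pos (R := k) (by omega)
      obtain ⟨⟨t, htW⟩, ht⟩ := exists_ne (0 : W')
      have ht0 : t ≠ 0 := fun h0 => ht (Subtype.ext h0)
      obtain ⟨L, hL⟩ := hμ t
      have hinj : Function.Injective L := by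
        rw [injective_iff_map_eq_zero]
        intro s hs
        by_contra hs0
        obtain ⟨α, β, Θ, hα, hβ, hΘ⟩ := h s hs0 t ht0
        have h1 := hΘ s t
        rw [← hL s, hs, map_zero] at h1
        exact mul_ne_zero hα hβ h1.symm
      have hle : LinearMap.range L ≤ prodSpan μ W' := by
        rintro _ ⟨s, rfl⟩
        rw [hL s]
        exact mem_prodSpan μ W' s htW
      have h1 := Submodule.finrank_mono hle
      rw [LinearMap.finrank_range_of_inj hinj] at h1
      omega
    | succ n ih =>
      intro W' hW'
      haveI : Nontrivial W' := Module.nontrivial_of_finrank_pos (R := k) (by omega)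
      obtain ⟨⟨t, htW⟩, ht⟩ := exists_ne (0 : W')
      have ht0 : t ≠ 0 := fun h0 => ht (Subtype.ext h0)
      obtain ⟨s, hs0⟩ := exists_ne (0 : V)
      obtain ⟨α, β, Θ, hα, hβ, hΘ⟩ := h s hs0 t ht0
      let β' : W' →ₗ[k] k := β.domRestrict W'
      let W'' : Submodule k W := (LinearMap.ker β').map W'.subtype
      have hrange : finrank k (LinearMap.range β') = 1 := by
        have hle : finrank k (LinearMap.range β') ≤ 1 := by
          have := Submodule.finrank_le (LinearMap.range β')
          rwa [Module.finrank_self] at this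
        have hne : LinearMap.range β' ≠ ⊥ := by
          intro hb
          have : β' ⟨t, htW⟩ ∈ LinearMap.range β' := ⟨_, rfl⟩
          rw [hb, Submodule.mem_bot] at this
          exact hβ this
        have hpos : 0 < finrank k (LinearMap.range β') := by
          rw [Module.finrank_pos_iff_exists_ne_zero]
          obtain ⟨x, hx, hx0⟩ := Submodule.exists_mem_ne_zero_of_ne_bot hne
          exact ⟨⟨x, hx⟩, fun h0 => hx0 (congrArg Subtype.val h0)⟩
        omega
      have hW'' : finrank k W'' = n + 1 := by
        have h1 := LinearMap.finrank_range_add_finrank_ker β'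
        have h2 : finrank k W'' = finrank k (LinearMap.ker β') :=
          (Submodule.equivMapOfInjective W'.subtype W'.injective_subtype _).symm.finrank_eq
        omega
      have h3 := ih W'' hW''
      have hsub : prodSpan μ W'' ≤ prodSpan μ W' ⊓ LinearMap.ker Θ := by
        apply Submodule.span_le.mpr
        rintro _ ⟨s', t', ht', rfl⟩
        obtain ⟨⟨t'', ht''W⟩, hker, rfl⟩ := ht'
        refine ⟨mem_prodSpan μ W' s' ht''W, ?_⟩
        change Θ (μ s' t'') = 0
        rw [hΘ]
        have : β t'' = 0 := hker
        rw [this, mul_zero]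
      have hlt : prodSpan μ W' ⊓ LinearMap.ker Θ < prodSpan μ W' := by
        refine lt_of_le_of_ne inf_le_left ?_
        intro heq
        have hmem : μ s t ∈ prodSpan μ W' ⊓ LinearMap.ker Θ := by
          rw [heq]
          exact mem_prodSpan μ W' s htW
        have h4 : Θ (μ s t) = 0 := hmem.2
        rw [hΘ] at h4
        exact mul_ne_zero hα hβ h4
      have h5 := Submodule.finrank_lt_finrank_of_lt hlt
      have h6 := Submodule.finrank_mono hsub
      omega
  have hW : 0 < finrank k W := Module.finrank_pos
  have h1 := key (finrank k W - 1) ⊤ (by rw [finrank_top]; omega)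
  have h2 := Submodule.finrank_le (prodSpan μ (⊤ : Submodule k W))
  omega

end Groth.Agent.H5.Hopf
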