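import Mathlib
import Groth.Agent.Lib.Helper5.Hopf.HopfAbs
import Groth.Agent.Lib.Helper5.SD.HopfLem
import Groth.Agent.Lib.Helper5.SD.PencilB
import Groth.Agent.Lib.Helper5.Eig.Eig1
import Groth.Agent.Lib.Helper5.Curve4.VB2
import Groth.Agent.Lib.Lead.QC.LocFree
import Groth.Agent.Lib.Lead.QC.TensorDesc
import Groth.Agent.Lib.Lead.Misc3.NormSS2

/-!
# Hopf's inequality `h⁰(E₁) + h⁰(E₂) ≤ h⁰(E₁ ⊗ E₂) + 1` for vector bundles on an integral proper
scheme over an algebraically closed field.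
-/

set_option autoImplicit false
set_option linter.style.haveILetI false
universe u
open CategoryTheory CategoryTheory.Limits AlgebraicGeometry TopologicalSpace Opposite

namespace Groth.Agent.H5.Hopf

open Groth.Agent.LD Groth.Agent.LD.QC Groth.Agent.H5.SD

variable (k : Type u) [Field k] {X : Scheme.{u}} [X.Over (Spec (CommRingCat.of k))]

/-- the value of a product of sections. -/
lemma mulSec_app_one {E₁ E₂ : X.Modules} [E₁.IsQuasicoherent] (s : unitMod X ⟶ E₁)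
    (t : unitMod X ⟶ E₂) :
    (mulSec s t).app ⊤ (1 : Γ(X, ⊤)) =
      SecTwist.tmul E₁ E₂ ⊤ (s.app ⊤ (1 : Γ(X, ⊤))) (t.app ⊤ (1 : Γ(X, ⊤))) := by
  change (KoszTw.tensorMap (𝟙 E₁) t).app ⊤ ((SecTwist.unitorR E₁).inv.app ⊤
    (s.app ⊤ (1 : Γ(X, ⊤)))) = _
  rw [unitorR_inv_app, KoszTw.tensorMap_tmul, Scheme.Modules.Hom.id_app]
  rfl

/-- a functional on sections: restrict to `U`, apply a linear form, evaluate. -/
noncomputable def evalFun (U : X.Opens) (ε : Γ(X, U) →+* k)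
    (hε : ∀ a : k, ε (X.presheaf.map (homOfLE (le_top : U ≤ ⊤)).op
      (Coh.toGlobal (X ↘ Spec (CommRingCat.of k)) a)) = a)
    (E : X.Modules) (g : Γ(E, U) →ₗ[Γ(X, U)] Γ(X, U)) : (unitMod X ⟶ E) →ₗ[k] k where
  toFun u := ε (g (E.presheaf.map (homOfLE (le_top : U ≤ ⊤)).op (u.app ⊤ (1 : Γ(X, ⊤)))))
  map_add' u v := by
    rw [add_app']
    have h1 : E.presheaf.map (homOfLE (le_top : U ≤ ⊤)).op
        (u.app ⊤ (1 : Γ(X, ⊤)) + v.app ⊤ (1 : Γ(X, ⊤))) =
        E.presheaf.map (homOfLE (le_top : U ≤ ⊤)).op (u.app ⊤ (1 : Γ(X, ⊤))) +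
        E.presheaf.map (homOfLE (le_top : U ≤ ⊤)).op (v.app ⊤ (1 : Γ(X, ⊤))) := map_add _ _ _
    rw [h1, map_add, map_add]
  map_smul' a u := by
    have h1 : X.presheaf.map (homOfLE (le_top : (⊤ : X.Opens) ≤ ⊤)).op
        (Coh.toGlobal (X ↘ Spec (CommRingCat.of k)) a) =
        Coh.toGlobal (X ↘ Spec (CommRingCat.of k)) a := by
      have h0 : (homOfLE (le_top : (⊤ : X.Opens) ≤ ⊤)).op = 𝟙 (op ⊤) := rfl
      rw [h0, X.presheaf.map_id]
      rfl
    rw [KLin.smul_app_apply, h1, smul_res, map_smul, smul_eq_mul, map_mul, hε]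
    rfl

lemma evalFun_apply (U : X.Opens) (ε : Γ(X, U) →+* k)
    (hε : ∀ a : k, ε (X.presheaf.map (homOfLE (le_top : U ≤ ⊤)).op
      (Coh.toGlobal (X ↘ Spec (CommRingCat.of k)) a)) = a)
    (E : X.Modules) (g : Γ(E, U) →ₗ[Γ(X, U)] Γ(X, U)) (u : unitMod X ⟶ E) :
    evalFun k U ε hε E g u =
      ε (g (E.presheaf.map (homOfLE (le_top : U ≤ ⊤)).op (u.app ⊤ (1 : Γ(X, ⊤))))) := rfl

section Eval

variable [IsAlgClosed k] [LocallyOfFiniteType (X ↘ Spec (CommRingCat.of k))]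

/-- the residue map `O_{X,p} → k` at a closed point. -/
noncomputable def resAt (p : X) (hp : IsClosed ({p} : Set X)) : X.presheaf.stalk p →+* k :=
  (RingEquiv.ofBijective (Eig.constRes (X ↘ Spec (CommRingCat.of k)) p)
    (Eig.constRes_bijective (X ↘ Spec (CommRingCat.of k)) p hp)).symm.toRingHom.comp
      (X.residue p).hom

/-- evaluation of functions on `U` at a closed point `p ∈ U`. -/
noncomputable def evalAt (p : X) (hp : IsClosed ({p} : Set X)) (U : X.Opens) (hpU : p ∈ U) :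
    Γ(X, U) →+* k :=
  (resAt k p hp).comp (X.presheaf.germ U p hpU).hom

lemma evalAt_const (p : X) (hp : IsClosed ({p} : Set X)) (U : X.Opens) (hpU : p ∈ U) (a : k) :
    evalAt k p hp U hpU (X.presheaf.map (homOfLE (le_top : U ≤ ⊤)).op
      (Coh.toGlobal (X ↘ Spec (CommRingCat.of k)) a)) = a := by
  change (RingEquiv.ofBijective (Eig.constRes (X ↘ Spec (CommRingCat.of k)) p)
    (Eig.constRes_bijective (X ↘ Spec (CommRingCat.of k)) p hp)).symm
      ((X.residue p).hom (X.presheaf.germ U p hpU (X.presheaf.map (homOfLE (le_top : U ≤ ⊤)).op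
        (Coh.toGlobal (X ↘ Spec (CommRingCat.of k)) a)))) = a
  rw [sgerm_res]
  exact (RingEquiv.ofBijective (Eig.constRes (X ↘ Spec (CommRingCat.of k)) p)
    (Eig.constRes_bijective (X ↘ Spec (CommRingCat.of k)) p hp)).symm_apply_apply a

lemma evalAt_ne_zero (p : X) (hp : IsClosed ({p} : Set X)) (U : X.Opens) (hpU : p ∈ U)
    (f : Γ(X, U)) (hf : p ∈ X.basicOpen f) : evalAt k p hp U hpU f ≠ 0 := by
  have hu : IsUnit (X.presheaf.germ U p hpU f) := (X.mem_basicOpen f p hpU).mp hf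
  have hu2 : IsUnit (evalAt k p hp U hpU f) := hu.map (resAt k p hp)
  exact hu2.ne_zero

end Eval

section Main

variable [IsAlgClosed k] [IsIntegral X] [IsProper (X ↘ Spec (CommRingCat.of k))]

omit [IsAlgClosed k] [IsProper (X ↘ Spec (CommRingCat.of k))] in
include k in
/-- a nonzero section of a vector bundle on an integral scheme is nonzero on every open
containing the generic point. -/
lemma res_section_ne_zero {E : X.Modules} (hE : FlatMod.IsFinLocFree E) [E.IsQuasicoherent]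
    (s : unitMod X ⟶ E) (hs : s ≠ 0) (U : X.Opens) (hη : genericPoint X ∈ U) :
    E.presheaf.map (homOfLE (le_top : U ≤ ⊤)).op (s.app ⊤ (1 : Γ(X, ⊤))) ≠ 0 := by
  obtain ⟨r, hr⟩ := Groth.Agent.H5.Curve4.exists_rank hE
  intro h0
  apply hs
  have hg : E.presheaf.germ ⊤ (genericPoint X) trivial (s.app ⊤ (1 : Γ(X, ⊤))) = 0 := by
    rw [← germ_res E (genericPoint X) (le_top : U ≤ ⊤) hη, h0]
    exact map_zero _
  have hz := Groth.Agent.LD.NormSS.section_eq_zero_of_germ_generic E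
    (fun y => Groth.Agent.LD.NormSS.torsion_eq_bot_of_rank hr y) (s.app ⊤ (1 : Γ(X, ⊤)))
    trivial hg
  letI := PF.moduleΓ k E
  exact (secEquiv k E).injective (by rw [map_zero]; exact hz)

/-- a coordinate form not vanishing on a given nonzero element of a free module. -/
lemma exists_coord_ne_zero {A M : Type*} [CommRing A] [AddCommGroup M] [Module A M] {n : ℕ}
    (ℓ : M ≃ₗ[A] (Fin n → A)) (m : M) (hm : m ≠ 0) : ∃ ν : M →ₗ[A] A, ν m ≠ 0 := by
  have h1 : ℓ m ≠ 0 := fun h => hm (ℓ.injective (by rw [h, map_zero]))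
  obtain ⟨i, hi⟩ := Function.ne_iff.mp h1
  exact ⟨(LinearMap.proj i).comp ℓ.toLinearMap, hi⟩

/-- **evaluation functionals** separating a pair of nonzero sections, multiplicative on products. -/
theorem exists_functionals {E₁ E₂ : X.Modules} (h₁ : FlatMod.IsFinLocFree E₁)
    (h₂ : FlatMod.IsFinLocFree E₂) [E₁.IsQuasicoherent] [E₂.IsQuasicoherent]
    (s : unitMod X ⟶ E₁) (hs : s ≠ 0) (t : unitMod X ⟶ E₂) (ht : t ≠ 0) :
    ∃ (α : (unitMod X ⟶ E₁) →ₗ[k] k) (β : (unitMod X ⟶ E₂) →ₗ[k] k)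
      (Θ : (unitMod X ⟶ CohB1.tensorMod E₁ E₂) →ₗ[k] k),
      α s ≠ 0 ∧ β t ≠ 0 ∧ ∀ s' t', Θ (mulSec s' t') = α s' * β t' := by
  obtain ⟨W₁, n₁, hη₁, ⟨e₁⟩⟩ := h₁ (genericPoint X)
  obtain ⟨W₂, n₂, hη₂, ⟨e₂⟩⟩ := h₂ (genericPoint X)
  obtain ⟨U, hU, hηU, hUW⟩ := exists_isAffineOpen_mem_and_subset (x := genericPoint X)
    (U := W₁ ⊓ W₂) ⟨hη₁, hη₂⟩
  have hr₁ : Set.range hU.fromSpec ⊆ Set.range W₁.ι := by
    rw [hU.range_fromSpec, Scheme.Opens.range_ι]
    exact hUW.trans inf_le_left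
  have hr₂ : Set.range hU.fromSpec ⊆ Set.range W₂.ι := by
    rw [hU.range_fromSpec, Scheme.Opens.range_ι]
    exact hUW.trans inf_le_right
  obtain ⟨ℓ₁⟩ := (restrict_fromSpec_iso_freeMod_iff E₁ hU n₁).mp
    (freeMod_of_range_subset E₁ W₁.ι hU.fromSpec hr₁ n₁ e₁)
  obtain ⟨ℓ₂⟩ := (restrict_fromSpec_iso_freeMod_iff E₂ hU n₂).mp
    (freeMod_of_range_subset E₂ W₂.ι hU.fromSpec hr₂ n₂ e₂)
  haveI : Nonempty U := ⟨⟨genericPoint X, hηU⟩⟩
  obtain ⟨ν, hν⟩ := exists_coord_ne_zero ℓ₁ _ (res_section_ne_zero k h₁ s hs U hηU)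
  obtain ⟨lam, hlam⟩ := exists_coord_ne_zero ℓ₂ _ (res_section_ne_zero k h₂ t ht U hηU)
  -- a closed point where both coordinates are units
  let f : Γ(X, U) := ν (E₁.presheaf.map (homOfLE (le_top : U ≤ ⊤)).op (s.app ⊤ (1 : Γ(X, ⊤)))) *
    lam (E₂.presheaf.map (homOfLE (le_top : U ≤ ⊤)).op (t.app ⊤ (1 : Γ(X, ⊤))))
  have hf : f ≠ 0 := mul_ne_zero hν hlam
  have hne : ((X.basicOpen f : X.Opens) : Set X).Nonempty := by
    by_contra hemp
    rw [Set.not_nonempty_iff_eq_empty] at hemp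
    have hb : X.basicOpen f = ⊥ := Opens.ext hemp
    exact hf ((AlgebraicGeometry.basicOpen_eq_bot_iff f).mp hb)
  haveI : JacobsonSpace X := LocallyOfFiniteType.jacobsonSpace (X ↘ Spec (CommRingCat.of k))
  obtain ⟨p, hpf, hpcl⟩ := nonempty_inter_closedPoints hne (X.basicOpen f).2.isLocallyClosed
  have hp : IsClosed ({p} : Set X) := hpcl
  have hpU : p ∈ U := X.basicOpen_le f hpf
  have hε := evalAt_const k p hp U hpU
  have hεf : evalAt k p hp U hpU f ≠ 0 := evalAt_ne_zero k p hp U hpU f hpf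
  let m : TensorProduct Γ(X, U) Γ(E₁, U) Γ(E₂, U) →ₗ[Γ(X, U)] Γ(X, U) :=
    TensorProduct.lift ((LinearMap.mul Γ(X, U) Γ(X, U)).compl₁₂ ν lam)
  refine ⟨evalFun k U (evalAt k p hp U hpU) hε E₁ ν, evalFun k U (evalAt k p hp U hpU) hε E₂ lam,
    evalFun k U (evalAt k p hp U hpU) hε _ (m.comp (tensorSecEquiv E₁ E₂ hU).symm.toLinearMap),
    ?_, ?_, ?_⟩
  · intro h0
    apply hεf
    rw [evalFun_apply] at h0
    change evalAt k p hp U hpU (_ * _) = 0
    rw [map_mul, h0, zero_mul]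
  · intro h0
    apply hεf
    rw [evalFun_apply] at h0
    change evalAt k p hp U hpU (_ * _) = 0
    rw [map_mul, h0, mul_zero]
  · intro s' t'
    rw [evalFun_apply, evalFun_apply, evalFun_apply, mulSec_app_one, tmul_res]
    change evalAt k p hp U hpU (m ((tensorSecEquiv E₁ E₂ hU).symm
      (SecTwist.tmul E₁ E₂ U _ _))) = _
    rw [tensorSecEquiv_symm_tmul, TensorProduct.lift.tmul]
    exact map_mul (evalAt k p hp U hpU) _ _

/-- **Hopf's inequality** for vector bundles on an integral proper scheme over an algebraically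
closed field. -/
theorem h0_add_h0_le_tensor (E₁ E₂ : X.Modules) (h₁ : FlatMod.IsFinLocFree E₁)
    (h₂ : FlatMod.IsFinLocFree E₂)
    [Nontrivial (Coh.HH X E₁ 0)] [Nontrivial (Coh.HH X E₂ 0)] :
    Module.finrank k (Coh.HH X E₁ 0) + Module.finrank k (Coh.HH X E₂ 0) ≤
      Module.finrank k (Coh.HH X (CohB1.tensorMod E₁ E₂) 0) + 1 := by
  haveI : IsNoetherian X := Groth.Agent.H5.Curve2.isNoetherian_of_proper k X
  have hc₁ : Coh.IsCoh E₁ := Curve.isCoh_of_isFinLocFree h₁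
  have hc₂ : Coh.IsCoh E₂ := Curve.isCoh_of_isFinLocFree h₂
  haveI := hc₁.1
  haveI := hc₂.1
  have hc₁₂ : Coh.IsCoh (CohB1.tensorMod E₁ E₂) :=
    ⟨tensorMod_isQuasicoherent _ _, tensorMod_isFiniteType _ _ hc₁.2 hc₂.2⟩
  haveI := Curve.finite_HH k X _ hc₁ 0
  haveI := Curve.finite_HH k X _ hc₂ 0
  have hp₁ : 0 < Module.finrank k (Coh.HH X E₁ 0) := Module.finrank_pos
  have hp₂ : 0 < Module.finrank k (Coh.HH X E₂ 0) := Module.finrank_pos
  rw [finrank_H0_eq_finrank_hom k E₁, finrank_H0_eq_finrank_hom k E₂,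
    finrank_H0_eq_finrank_hom k (CohB1.tensorMod E₁ E₂)] at *
  haveI : Module.Finite k (unitMod X ⟶ E₁) := finite_hom_unit k X E₁ hc₁
  haveI : Module.Finite k (unitMod X ⟶ E₂) := finite_hom_unit k X E₂ hc₂
  haveI : Module.Finite k (unitMod X ⟶ CohB1.tensorMod E₁ E₂) := finite_hom_unit k X _ hc₁₂
  haveI : Nontrivial (unitMod X ⟶ E₁) := Module.nontrivial_of_finrank_pos (R := k) hp₁
  haveI : Nontrivial (unitMod X ⟶ E₂) := Module.nontrivial_of_finrank_pos (R := k) hp₂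
  refine finrank_add_le (fun s t => mulSec s t) (fun t => ⟨
    { toFun := fun s => mulSec s t
      map_add' := fun φ ψ => Preadditive.add_comp _ _ _ _ _ _
      map_smul' := fun a φ => Linear.smul_comp _ _ _ _ _ _ }, fun s => rfl⟩) ?_
  intro s hs t ht
  exact exists_functionals k h₁ h₂ s hs t ht

end Main

end Groth.Agent.H5.Hopf
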